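import Cfsg.Agent.H841.Phi
import Cfsg.Agent.R08.FiTwentyFour
import Cfsg.Agent.H30.BR.Move
import Cfsg.Agent.H611.CoverPrincipal
import Cfsg.Agent.HKS.CosetTwo

/-!
# S4891: the rows of `Fi23` and `Fi24'` at the prime 5 (helper30)

The element `f0 = l a k` normalises `⟨y0⟩` (`f0 y0 f0⁻¹ = y0 ^ 2`) and commutes with `S₉`; hence all irreducible
characters of `Fi24` and of `Fi23` are 5-rational.
-/

set_option autoImplicit false
set_option maxRecDepth 100000

namespace Cfsg.Agent.H30.BR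

open Cfsg Cfsg.Agent.Lib.PermNet Cfsg.Agent.Lib.PermNetPt Cfsg.Agent.Fischer.Fi24RepDef Cfsg.Agent.Fischer.Fi24Rep
open Cfsg.Agent.Fischer.Fi24RepOrb (UG orbG)
open Cfsg.Agent.Fischer.Fi24Spider (word_append word_cons word_nil gword gen_conj)
open Cfsg.Agent.R08.FiTwentyFour (L)
open Cfsg.Agent.KFacts.FiTF.Pts Cfsg.Agent.KFacts.FiTF.FixMask
open Cfsg.Agent.LThreeFi24.SNineK Cfsg.Agent.LThreeFi24.SNine Cfsg.Agent.H841.Five
open Cfsg.Spor (Fi24)
open Cfsg.Spor.Fi24 (Gen)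
open Cfsg.Agent.H493.RatB Cfsg.Agent.H145.BR
open Equiv

/-- the element `l a k` -/
def f0 : Fi24 := word [.l, .a, .k]

theorem chk_f : (chkPt (nw [.l, .a, .k] false) 136 136 && chkPt (nw [.l, .a, .k] false) 8 8 &&
    chkPt (nw [.l, .a, .k] false) 676 676 && chkPt (nw [.l, .a, .k] false) 3 3 &&
    chkPt (nw [.l, .a, .k] false) 2914 2914 && chkPt (nw [.l, .a, .k] false) 4 4 &&
    chkPt (nw [.l, .a, .k] false) 176 176 && chkPt (nw [.l, .a, .k] false) 79 79) = true := by decide +kernel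

theorem R_f0 : R f0 1 := by
  have h := chk_f
  simp only [Bool.and_eq_true] at h
  obtain ⟨⟨⟨⟨⟨⟨⟨h0, h1⟩, h2⟩, h3⟩, h4⟩, h5⟩, h6⟩, h7⟩ := h
  refine R_one_of fun k => ?_
  fin_cases k
  · exact rho_of_chkPt h0
  · exact rho_of_chkPt h1
  · exact rho_of_chkPt h2
  · exact rho_of_chkPt h3
  · exact rho_of_chkPt h4
  · exact rho_of_chkPt h5
  · exact rho_of_chkPt h6
  · exact rho_of_chkPt h7

theorem f0_comm (σ : Perm (Fin 9)) : f0 * Phi σ = Phi σ * f0 := R_f0.comm_S9 (Phi_mem σ)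

/-- the word of `f0 y0 f0⁻¹ y0⁻²` -/
def nwd : List Gen := [.l, .a, .k] ++ [.l, .k, .a, .b] ++ [.k, .a, .l] ++ [.b, .a, .k, .l] ++ [.b, .a, .k, .l]

theorem chk_n : (chkPt (nw nwd false) 0 0 && chkPt (nw nwd false) 307872 307872 && chkPt (nw nwd false) 1 1 &&
    chkPt (nw nwd false) 193 193) = true := by decide +kernel

theorem word_n : word nwd = f0 * y0 * f0⁻¹ * (y0 ^ 2)⁻¹ := by
  unfold nwd f0 y0
  rw [word_append, word_append, word_append, word_append, pow_two, mul_inv_rev]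
  have e1 : (word [Gen.l, .a, .k])⁻¹ = word [.k, .a, .l] := (word_reverse [.l, .a, .k]).symm
  have e2 : (word [Gen.l, .k, .a, .b])⁻¹ = word [.b, .a, .k, .l] := (word_reverse [.l, .k, .a, .b]).symm
  rw [e1, e2]
  simp only [mul_assoc]

theorem f0_conj : f0 * y0 * f0⁻¹ = y0 ^ 2 := by
  have h := chk_n
  simp only [Bool.and_eq_true] at h
  obtain ⟨⟨⟨h0, h1⟩, h2⟩, h3⟩ := h
  have hR : R (f0 * y0 * f0⁻¹ * (y0 ^ 2)⁻¹) 1 := by
    have h4 := ((R_f0.mul LThreeFi24.FiveConj.R_y0).mul R_f0.inv).mul (R_y0_pow 2).inv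
    simpa using h4
  rw [← word_n] at hR
  have h5 : word nwd = 1 := eq_one_of_lkab hR (comm_of_fix (rho_of_chkPt h0)) (comm_of_fix (rho_of_chkPt h1))
    (comm_of_fix (rho_of_chkPt h2)) (comm_of_fix (rho_of_chkPt h3))
  rw [word_n] at h5
  exact mul_inv_eq_one.1 h5

/-- conjugation by the powers of `f0` -/
theorem exists_f {k : ℕ} (hk : ¬ 5 ∣ k) : ∃ f : Fi24, f * y0 * f⁻¹ = y0 ^ k ∧ ∀ σ : Perm (Fin 9), f * Phi σ = Phi σ * f := by
  have h5 : y0 ^ 5 = 1 := by
    have := pow_orderOf_eq_one y0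
    rwa [LThreeFi24.FiveConj.orderOf_y0] at this
  -- the powers
  have hp : ∀ j : ℕ, (f0 ^ j) * y0 * (f0 ^ j)⁻¹ = y0 ^ (2 ^ j) := by
    intro j
    induction j with
    | zero => simp
    | succ j ih =>
      calc f0 ^ (j + 1) * y0 * (f0 ^ (j + 1))⁻¹ = f0 ^ j * (f0 * y0 * f0⁻¹) * (f0 ^ j)⁻¹ := by
            rw [pow_succ]; group
        _ = (f0 ^ j * y0 * (f0 ^ j)⁻¹) ^ 2 := by rw [f0_conj, conj_pow]
        _ = y0 ^ 2 ^ (j + 1) := by rw [ih, ← pow_mul, pow_succ]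
  have hc : ∀ (j : ℕ) (σ : Perm (Fin 9)), f0 ^ j * Phi σ = Phi σ * f0 ^ j := by
    intro j σ
    have h : Commute f0 (Phi σ) := f0_comm σ
    exact (h.pow_left j).eq
  have hmod : ∀ m : ℕ, m % 5 = k % 5 → y0 ^ m = y0 ^ k := by
    intro m hm
    rw [pow_inj_mod, LThreeFi24.FiveConj.orderOf_y0]
    exact hm
  have hk' : k % 5 ≠ 0 := fun h => hk (Nat.dvd_of_mod_eq_zero h)
  have hk5 : k % 5 < 5 := Nat.mod_lt _ (by norm_num)
  have hcases : ∃ j : ℕ, 2 ^ j % 5 = k % 5 := by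
    generalize k % 5 = r at *
    interval_cases r
    · exact absurd rfl hk'
    · exact ⟨0, rfl⟩
    · exact ⟨1, rfl⟩
    · exact ⟨3, rfl⟩
    · exact ⟨2, rfl⟩
  obtain ⟨j, hj⟩ := hcases
  exact ⟨f0 ^ j, by rw [hp j, hmod _ hj], hc j⟩

/-- a 5-regular element commuting with `y0` -/
theorem eq_Phi {y : Fi24} (hy : y * y0 = y0 * y) (h5 : ¬ 5 ∣ orderOf y) : ∃ σ : Perm (Fin 9), y = Phi σ := by
  obtain ⟨i, σ, hi, hR, he⟩ := exists_of_comm hy
  refine ⟨σ, ?_⟩
  have h1 := (comm_y0_pow_Phi i σ).mul_pow (orderOf y)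
  rw [← he, pow_orderOf_eq_one] at h1
  have h2 := hR.pow (orderOf y)
  rw [pow_orderOf_eq_one] at h2
  have h3 : σ ^ orderOf y = 1 := h2.uniq R.one
  rw [← map_pow, h3, map_one, mul_one, ← pow_mul] at h1
  have h4 : 5 ∣ i * orderOf y := by
    rw [← LThreeFi24.FiveConj.orderOf_y0]
    exact orderOf_dvd_of_pow_eq_one h1.symm
  have h6 : i = 0 := by
    rcases (Nat.Prime.dvd_mul (by norm_num)).1 h4 with h | h
    · exact Nat.eq_zero_of_dvd_of_lt h hi
    · exact absurd h h5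
  rw [he, h6, pow_zero, one_mul]

/-- **The moving element**: `g x g⁻¹ = x ^ k`, commuting with `y` and with the transpositions commuting with `x`. -/
theorem exists_move {x y : Fi24} (hx : orderOf x = 5) (hxy : x * y = y * x) (hy : ¬ 5 ∣ orderOf y) {k : ℕ} (hk : ¬ 5 ∣ k) :
    ∃ g : Fi24, g * x * g⁻¹ = x ^ k ∧ g * y = y * g ∧ ∀ t ∈ L, x * t = t * x → g * t = t * g := by
  obtain ⟨h, hh⟩ := LThreeFi24.FiveConj.exists_conj_five hx
  obtain ⟨f, hf1, hf2⟩ := exists_f hk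
  -- conjugates
  have hcj : ∀ z : Fi24, x * z = z * x → (h * z * h⁻¹) * y0 = y0 * (h * z * h⁻¹) := by
    intro z hz
    rw [← hh]
    calc h * z * h⁻¹ * (h * x * h⁻¹) = h * (z * x) * h⁻¹ := by group
      _ = h * (x * z) * h⁻¹ := by rw [hz]
      _ = h * x * h⁻¹ * (h * z * h⁻¹) := by group
  have hback : ∀ z : Fi24, (∃ σ : Perm (Fin 9), h * z * h⁻¹ = Phi σ) → (h⁻¹ * f * h) * z = z * (h⁻¹ * f * h) := by
    rintro z ⟨σ, hσ⟩
    have e1 := hf2 σ
    rw [← hσ] at e1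
    calc h⁻¹ * f * h * z = h⁻¹ * (f * (h * z * h⁻¹)) * h := by group
      _ = h⁻¹ * ((h * z * h⁻¹) * f) * h := by rw [e1]
      _ = z * (h⁻¹ * f * h) := by group
  refine ⟨h⁻¹ * f * h, ?_, hback y ?_, fun t ht hxt => hback t ?_⟩
  · calc h⁻¹ * f * h * x * (h⁻¹ * f * h)⁻¹ = h⁻¹ * (f * (h * x * h⁻¹) * f⁻¹) * h := by group
      _ = h⁻¹ * (h * x * h⁻¹) ^ k * h := by rw [hh, hf1]
      _ = x ^ k := by rw [conj_pow]; group
  · refine eq_Phi (hcj y hxy) ?_
    have e1 : orderOf (h * y * h⁻¹) = orderOf y := by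
      have := MulEquiv.orderOf_eq (MulAut.conj h) y
      simpa using this
    rw [e1]
    exact hy
  · obtain ⟨i, j, hij, e⟩ := of_comm_y0 (Cfsg.Agent.R08.FiTwentyFour.conj_mem_L ht h) (hcj t hxt).symm
    exact ⟨_, e⟩

/-- no element of order 25 -/
theorem orderOf_ne (z : Fi24) : orderOf z ≠ 5 ^ 2 := by
  intro hz
  have hx : orderOf (z ^ 5) = 5 := by
    rw [orderOf_pow_of_dvd (by norm_num) (by rw [hz]; norm_num), hz]
    norm_num
  obtain ⟨h, hh⟩ := LThreeFi24.FiveConj.exists_conj_five hx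
  have hc : (h * z * h⁻¹) * y0 = y0 * (h * z * h⁻¹) := by
    rw [← hh, ← conj_pow]
    exact ((Commute.refl (h * z * h⁻¹)).pow_right 5).eq
  obtain ⟨i, σ, hi, hR, he⟩ := exists_of_comm hc
  have h5 : y0 ^ 5 = 1 := by
    have := pow_orderOf_eq_one y0
    rwa [LThreeFi24.FiveConj.orderOf_y0] at this
  have e1 : (h * z * h⁻¹) ^ 5 = y0 := by rw [conj_pow]; exact hh
  have e2 := hR.pow 5
  rw [e1] at e2
  have e3 : σ ^ 5 = 1 := e2.uniq LThreeFi24.FiveConj.R_y0
  rw [he, (comm_y0_pow_Phi i σ).mul_pow, ← map_pow, e3, map_one, mul_one, ← pow_mul, mul_comm, pow_mul, h5,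
    one_pow] at e1
  exact LThreeFi24.FiveConj.y0_ne e1.symm

theorem move_fi24 : Move 5 Fi24 :=
  ⟨orderOf_ne, fun _ _ hx hxy hy _ hk => by
    obtain ⟨g, h1, h2, -⟩ := exists_move hx hxy hy hk
    exact ⟨g, h1, h2⟩⟩

/-! ### `Fi23` -/

section Fi23

open Cfsg.Agent.R08.FiTwentyFour (facts)
open Cfsg.Spor (Fi23)

theorem sgn_gl : Cfsg.Agent.Fischer.Fi24Final.sgn (gen .l) = -1 := Cfsg.Agent.Fischer.Fi24Final.sgn_gen .l

/-- an element commuting with the transposition `l` acts on `Fi23` by conjugation with an element of `Fi23` -/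
theorem exists_down {g : Fi24} (hg : g * gen .l = gen .l * g) :
    ∃ k : Fi23, ∀ x : Fi23, g * facts.phi x * g⁻¹ = facts.phi (k * x * k⁻¹) := by
  have hph : ∀ x : Fi23, facts.phi x * gen .l = gen .l * facts.phi x := fun x => facts.phi_comm x
  rcases Int.units_eq_one_or (Cfsg.Agent.Fischer.Fi24Final.sgn g) with h | h
  · obtain ⟨k, hk⟩ := (facts.mem_range_iff g).2 ⟨hg, h⟩
    exact ⟨k, fun x => by rw [map_mul, map_mul, map_inv, hk]⟩
  · have e0 : g * gen .l * gen .l = gen .l * (g * gen .l) := by rw [hg, mul_assoc, hg]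
    obtain ⟨k, hk⟩ := (facts.mem_range_iff (g * gen .l)).2 ⟨e0, by rw [map_mul, h, sgn_gl]; rfl⟩
    refine ⟨k, fun x => ?_⟩
    rw [map_mul, map_mul, map_inv, hk]
    calc g * facts.phi x * g⁻¹ = g * (facts.phi x * gen .l) * (gen .l)⁻¹ * g⁻¹ := by group
      _ = g * (gen .l * facts.phi x) * (gen .l)⁻¹ * g⁻¹ := by rw [hph]
      _ = g * gen .l * facts.phi x * (g * gen .l)⁻¹ := by group

theorem move_fi23 : Move 5 Fi23 := by
  refine ⟨fun z hz => orderOf_ne (facts.phi z) ?_, fun x y hx hxy hy k hk => ?_⟩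
  · rw [orderOf_injective facts.phi facts.phi_injective, hz]
  · have hx' : orderOf (facts.phi x) = 5 := by rw [orderOf_injective facts.phi facts.phi_injective, hx]
    have hy' : ¬ 5 ∣ orderOf (facts.phi y) := by rw [orderOf_injective facts.phi facts.phi_injective]; exact hy
    have hxy' : facts.phi x * facts.phi y = facts.phi y * facts.phi x := by rw [← map_mul, hxy, map_mul]
    obtain ⟨g, h1, h2, h3⟩ := exists_move hx' hxy' hy' hk
    obtain ⟨c, hc⟩ := exists_down (h3 (gen .l) (Cfsg.Agent.R08.FiTwentyFour.gen_mem_L .l) (facts.phi_comm x))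
    refine ⟨c, facts.phi_injective ?_, ?_⟩
    · rw [← hc x, h1, map_pow]
    · have e1 := hc y
      rw [h2, mul_inv_cancel_right] at e1
      have e2 := facts.phi_injective e1
      rw [eq_comm, mul_inv_eq_iff_eq_mul] at e2
      exact e2

end Fi23

/-! ### `Fi24'` -/

section Down

open Cfsg.Agent.HKS.CosetTwo (sg isIrr_sg sg_of_mem sg_of_notMem isIrr_restrict)
open Cfsg.Agent.Characters.Core Cfsg.Agent.Blocks.Basic
open scoped ComplexConjugate

theorem eq_one_or_sg {G : Type} [Group G] [Finite G] {D : Subgroup G} (hD : D.index = 2) {χ : G → ℂ}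
    (hχ : IsIrrCharacter G χ) (h : ∀ d ∈ D, χ d = 1) : χ = 1 ∨ χ = sg hD := by
  classical
  have := Fintype.ofFinite G
  by_contra hcon
  push Not at hcon
  have h1 := classInner_irr_ne hχ isIrr_one hcon.1
  have h2 := classInner_irr_ne hχ (isIrr_sg hD) hcon.2
  have h3 : classInner χ ((1 : G → ℂ) + sg hD) = 0 := by rw [classInner_add_right, h1, h2, add_zero]
  rw [Cfsg.Agent.Characters.Core.classInner_def] at h3
  have h4 : ∀ g : G, χ g * conj (((1 : G → ℂ) + sg hD) g) = if g ∈ D then 2 else 0 := by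
    intro g
    by_cases hg : g ∈ D
    · rw [if_pos hg, Pi.add_apply, sg_of_mem hD hg, h g hg]
      simp
      norm_num
    · rw [if_neg hg, Pi.add_apply, sg_of_notMem hD hg]
      simp
  rw [Finset.sum_congr rfl fun g _ => h4 g, Finset.sum_ite, Finset.sum_const_zero, add_zero, Finset.sum_const] at h3
  have h5 : (Finset.univ.filter fun g : G => g ∈ D).card = Nat.card D := by
    rw [← Fintype.card_subtype, ← Nat.card_eq_fintype_card]
  rw [h5] at h3
  have h6 : (Nat.card G : ℂ) ≠ 0 := card_ne_zero_complex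
  have h7 : (Nat.card D : ℂ) ≠ 0 := card_ne_zero_complex
  simp at h3

theorem index_gl : (Subgroup.centralizer ({gen .l} : Set Fi24)).index = 306936 := by
  have := Cfsg.Agent.R08.FiTwentyFour.finite_Fi24
  rw [H684.Principal.index_centralizer_eq]
  exact Cfsg.Agent.R08.FiTwentyFour.ncard_L

/-- a member of the principal 5-block has a value at the transpositions which is not `0`, nor `-1` if it is linear -/
theorem val_gl {M : Ideal AlgInt} (hM : IsPModular 5 M) {χ : IrrCharacter Fi24} (hχ : χ ∈ principalBlock M Fi24) :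
    (χ : Fi24 → ℂ) (gen .l) ≠ 0 ∧ (χ : Fi24 → ℂ) (gen .l) ≠ - (χ : Fi24 → ℂ) 1 := by
  have : Fact (Nat.Prime 5) := ⟨by norm_num⟩
  have h1 := hχ (gen .l)
  rw [centralChar_def, centralChar_def, index_gl] at h1
  have h0 : (χ : Fi24 → ℂ) 1 ≠ 0 := by
    have := Cfsg.Agent.R08.FiTwentyFour.finite_Fi24
    exact irr_one_ne_zero χ.2
  constructor
  · intro h
    rw [h] at h1
    have h2 : ((306936 : ℕ) : ℂ) * 1 / 1 - ((306936 : ℕ) : ℂ) * 0 / (χ : Fi24 → ℂ) 1 = ((306936 : ℕ) : ℂ) := by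
      rw [mul_zero, zero_div, sub_zero, mul_one, div_one]
    rw [h2, Blocks.LocalRing.memLocalIdeal_natCast_iff hM] at h1
    norm_num at h1
  · intro h
    rw [h] at h1
    have h2 : ((306936 : ℕ) : ℂ) * 1 / 1 - ((306936 : ℕ) : ℂ) * (- (χ : Fi24 → ℂ) 1) / (χ : Fi24 → ℂ) 1 =
        ((613872 : ℕ) : ℂ) := by
      field_simp
      norm_num
    rw [h2, Blocks.LocalRing.memLocalIdeal_natCast_iff hM] at h1
    norm_num at h1

theorem witS_fi24' : WitS 5 Spor.Fi24' := by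
  have : Fact (Nat.Prime 5) := ⟨by norm_num⟩
  have hfin : Finite Fi24 := Cfsg.Agent.R08.FiTwentyFour.finite_Fi24
  have := Fintype.ofFinite Fi24
  have hD : (commutator Fi24).index = 2 := Cfsg.Agent.R08.FiTwentyFour.index_commutator
  have := Fintype.ofFinite (commutator Fi24)
  have hcard : 5 ∣ Nat.card Fi24 := by
    have h1 := (commutator Fi24).card_mul_index
    rw [Cfsg.Agent.R08.FiTwentyFour.card_commutator, hD] at h1
    rw [← h1]
    norm_num
  intro M hM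
  obtain ⟨χ, h1, h2, h3, -⟩ := exists_of_dvd (G := Fi24) hM (X := Fi24) hcard
  obtain ⟨h4, h5⟩ := val_gl hM h1
  have hl : gen .l ∉ commutator Fi24 :=
    Cfsg.Agent.R08.FiTwentyFour.odd (Cfsg.Agent.R08.FiTwentyFour.gen_mem_L .l)
  have hirr := isIrr_restrict hD χ.2 hl h4
  obtain ⟨n, hn1, hn2⟩ := pRat_of_move move_fi24 χ
  refine ⟨⟨_, hirr⟩, ?_, ?_, ?_, n, hn1, fun g => hn2 g⟩
  · refine H611.CoverPrincipal.mem_principalBlock_of_over 5 hM (commutator Fi24) χ ⟨_, hirr⟩ ?_ h1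
    show classInner (fun n : commutator Fi24 => (χ : Fi24 → ℂ) n) (fun n : commutator Fi24 => (χ : Fi24 → ℂ) n) ≠ 0
    rw [classInner_irr_self hirr]
    exact one_ne_zero
  · intro hc
    have h6 : ∀ d ∈ commutator Fi24, (χ : Fi24 → ℂ) d = 1 := fun d hd => congrFun hc ⟨d, hd⟩
    rcases eq_one_or_sg hD χ.2 h6 with h | h
    · exact h2 h
    · apply h5
      rw [h6 1 (one_mem _), h, sg_of_notMem hD hl]
  · show ¬ 5 ∣ charDegree (fun d : commutator Fi24 => (χ : Fi24 → ℂ) d)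
    rw [charDegree_def] at h3
    rw [charDegree_def]
    exact h3

end Down

/-! ### The rows -/

universe u

/-- **`Fi24'` at the prime 5** -/
theorem witS_isoFi24' {S : Type u} [Group S] (h : Spor.IsoFi24' S) : WitS 5 S := by
  obtain ⟨e⟩ := h
  have : Finite Fi24 := Cfsg.Agent.R08.FiTwentyFour.finite_Fi24
  have : Finite S := Finite.of_equiv _ e.symm.toEquiv
  exact WitS.congr e witS_fi24'

/-- **`Fi23` at the prime 5** -/
theorem witS_isoFi23 {S : Type u} [Group S] (h : Spor.IsoFi23 S) : WitS 5 S := by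
  obtain ⟨e⟩ := h
  have : Fact (Nat.Prime 5) := ⟨by norm_num⟩
  have hc : Nat.card Spor.Fi23 = 4089470473293004800 := Cfsg.Agent.S1697.result.2
  have : Finite Spor.Fi23 := Nat.finite_of_card_ne_zero (by rw [hc]; norm_num)
  have : Finite S := Finite.of_equiv _ e.symm.toEquiv
  exact WitS.congr e (witS_of_move move_fi23 (by rw [hc]; norm_num))

end Cfsg.Agent.H30.BR
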